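import Cfsg.Agent.Suzuki.Fi22Out.Cent
import Cfsg.Prelude.Def_KGroupFacts

/-!
The outer automorphism group of the presented Fischer group Fi22 has order two
-/

set_option autoImplicit false
set_option maxRecDepth 20000

namespace Cfsg.Agent.Suzuki.Fi22Out

open Cfsg Cfsg.Agent.Screen.CosetEnum

local notation "G" => Cfsg.Spor.Fi22
local notation "σ" => PresFi22.gens
local notation "T" => Fi22U62.tbl
local notation "N" => Tab.n Fi22U62.tbl

theorem frame_inj : ∀ i j : Fin 9, fP i = fP j → i = j := by decide +kernel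

/-- An automorphism keeps the first `k` generators. -/
def Keeps (φ : MulAut G) (k : ℕ) : Prop := ∀ i : Fin 9, (i : ℕ) < k → φ (dT (fr i)) = dT (fr i)

theorem adjF_iff (i : Fin 9) (r : Fin N) : adjF i r = true ↔ dT (fr i) * dT r = dT r * dT (fr i) := by
  rw [adjF_eq, adjB_iff]

theorem adj_image (φ : MulAut G) {q r q' r' : Fin N} (hq : φ (dT q) = dT q') (hr : φ (dT r) = dT r') :
    adjB q' r' = adjB q r := by
  refine adjB_congr ?_
  rw [← hq, ← hr, ← map_mul, ← map_mul, φ.injective.eq_iff]

theorem pat_eq (i k : Fin 9) : pat k i = adjB (fr i) (fr k) := by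
  rw [pat, ← fr_val k, adjF_eq]

theorem hasPat_image {φ : MulAut G} {k : Fin 9} (hk : Keeps φ k) {r : Fin N} (hr : φ (dT (fr k)) = dT r) :
    hasPat k r k = true := by
  have key : ∀ j : ℕ, j ≤ (k : ℕ) → hasPat k r j = true := by
    intro j
    induction j with
    | zero => intro _; rfl
    | succ j ih =>
      intro hj
      have hj9 : j < 9 := by have := k.isLt; omega
      have hi := hk ⟨j, hj9⟩ (by simp only; omega)
      have hne : Nat.beq (r : ℕ) (fP j) = false := by
        rw [Bool.eq_false_iff]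
        intro e
        have e' : r = fr ⟨j, hj9⟩ := Fin.ext ((Nat.eq_of_beq_eq_true e).trans (fr_val ⟨j, hj9⟩).symm)
        rw [e', ← hi] at hr
        have := congrArg Fin.val (dT_inj (φ.injective hr))
        rw [fr_val, fr_val] at this
        have := congrArg Fin.val (frame_inj k ⟨j, hj9⟩ this)
        simp only at this
        omega
      have hp : adjF j r = pat k j := by
        rw [show adjF j r = adjF ((⟨j, hj9⟩ : Fin 9) : ℕ) r from rfl, adjF_eq,
          show pat k j = pat k ((⟨j, hj9⟩ : Fin 9) : ℕ) from rfl, pat_eq, adj_image φ hi hr]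
      unfold hasPat
      rw [hp, hne, ih (by omega)]
      cases pat k j <;> rfl
  exact key k le_rfl

theorem coverGo_spec {k : ℕ} : ∀ {m : ℕ}, coverGo k m = true → ∀ c < m, hasPat k c k = true → bit (cover k) c = true
  | 0, _, c, hc => absurd hc (Nat.not_lt_zero c)
  | m + 1, h, c, hc => by
    simp only [coverGo, Bool.and_eq_true, Bool.or_eq_true, Bool.not_eq_true'] at h
    rcases Nat.lt_or_ge c m with hc' | hc'
    · exact coverGo_spec h.2 c hc'
    · obtain rfl : c = m := by omega
      intro hp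
      rcases h.1 with h' | h'
      · rw [hp] at h'; exact Bool.noConfusion h'
      · exact h'

theorem move {φ : MulAut G} {k : ℕ} (hk : Keeps φ k) {g : G} (hg : g ∈ stab k) :
    Keeps (MulAut.conj g⁻¹ * φ) k := by
  intro i hi
  rw [MulAut.mul_apply, hk i hi, MulAut.conj_apply, conj_dT, (inv_mem hg : g⁻¹ ∈ stab k) i hi]

theorem move_to {φ : MulAut G} {g : G} {b r q : Fin N} (hr : φ (dT q) = dT r) (he : act g b = r) :
    (MulAut.conj g⁻¹ * φ) (dT q) = dT b := by
  rw [MulAut.mul_apply, hr, MulAut.conj_apply, conj_dT, map_inv]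
  exact congrArg dT (Equiv.Perm.inv_eq_iff_eq.2 he.symm)

theorem keeps_succ {φ : MulAut G} {k : Fin 9} (h : Keeps φ k) (he : φ (dT (fr k)) = dT (fr k)) :
    Keeps φ ((k : ℕ) + 1) := by
  intro i hi
  rcases Nat.lt_or_ge (i : ℕ) k with h' | h'
  · exact h i h'
  · rwa [show i = k from Fin.ext (by omega)]

theorem advance {φ : MulAut G} {k : Fin 9} (hk4 : (k : ℕ) ≠ 4) (h : Keeps φ k) :
    ∃ g, Keeps (MulAut.conj g * φ) ((k : ℕ) + 1) := by
  obtain ⟨r, hr⟩ := image_point φ (fr k)
  have hb := coverGo_spec (cover_ok k) r r.isLt (hasPat_image h hr)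
  rw [cover, show Nat.beq (k : ℕ) 4 = false by
    rw [Bool.eq_false_iff]; exact fun e => hk4 (Nat.eq_of_beq_eq_true e), cond_false] at hb
  obtain ⟨g, hg, he⟩ := stage_reach k hb
  exact ⟨g⁻¹, keeps_succ (move h hg) (move_to hr he)⟩

theorem advance_to (φ : MulAut G) (a : ℕ) (h : Keeps φ a) :
    ∀ b, a ≤ b → b ≤ 9 → (∀ k, a ≤ k → k < b → k ≠ 4) → ∃ g, Keeps (MulAut.conj g * φ) b := by
  intro b
  induction b with
  | zero =>
    intro ha _ _
    exact ⟨1, by rw [map_one, one_mul]; rwa [show a = 0 by omega] at h⟩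
  | succ b ih =>
    intro ha hb h4
    rcases Nat.lt_or_ge b a with hba | hba
    · exact ⟨1, by rw [map_one, one_mul]; rwa [show a = b + 1 by omega] at h⟩
    obtain ⟨g, hg⟩ := ih hba (by omega) fun k h1 h2 => h4 k h1 (by omega)
    obtain ⟨g', hg'⟩ := advance (k := ⟨b, by omega⟩) (h4 b hba (by omega)) hg
    exact ⟨g' * g, by rw [map_mul, mul_assoc]; exact hg'⟩

theorem keeps_all {φ : MulAut G} (h : Keeps φ 9) : φ = 1 := by
  refine MulEquiv.toMonoidHom_injective (MonoidHom.eq_of_eqOn_dense PresFi22.gens_top ?_)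
  rintro _ ⟨n, rfl⟩
  by_cases hn : n < 9
  · obtain ⟨k, hk⟩ := order_cover ⟨n, hn⟩
    show φ (σ n) = σ n
    rw [← show fG k = n from hk, ← dT_fr]
    exact h k k.isLt
  · show φ (σ n) = σ n
    rw [PresFi22.gens_out n (Nat.le_of_not_lt hn), map_one]

theorem conj_mem (g : G) : MulAut.conj g ∈ Inn G := MonoidHom.mem_range.2 ⟨g, rfl⟩

theorem inner_of_five {φ : MulAut G} (h : Keeps φ 5) : φ ∈ Inn G := by
  obtain ⟨g, hg⟩ := advance_to φ 5 h 9 (by norm_num) le_rfl fun k h1 _ => by omega
  have := keeps_all hg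
  rw [mul_eq_one_iff_inv_eq] at this
  rw [← this]
  exact inv_mem (conj_mem g)

theorem deadListGo_spec {k : ℕ} : ∀ {m : ℕ}, deadListGo k m = true → ∀ c < m, deadPat k c 5 = true → c ∈ deadB k
  | 0, _, c, hc => absurd hc (Nat.not_lt_zero c)
  | m + 1, h, c, hc => by
    simp only [deadListGo, Bool.and_eq_true, Bool.or_eq_true, Bool.not_eq_true', List.contains_iff_mem] at h
    rcases Nat.lt_or_ge c m with hc' | hc'
    · exact deadListGo_spec h.2 c hc'
    · obtain rfl : c = m := by omega
      intro hp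
      rcases h.1 with h' | h'
      · rw [hp] at h'; exact Bool.noConfusion h'
      · exact h'

/-- An automorphism maps the frame to a list of points. -/
def Sends (φ : MulAut G) (pre : List ℕ) : Prop :=
  ∀ i : Fin 9, (i : ℕ) < pre.length → pre.getD i 0 < 3510 ∧ φ (dT (fr i)) = dT (mkP (pre.getD i 0))

theorem dead_pre : ∀ i : Fin 5, deadIdx i < 9 ∧ deadPre.getD i 0 = fP (deadIdx i) := by decide +kernel

theorem dead_sound {φ : MulAut G} : ∀ (f k : ℕ) (pre : List ℕ), deadGo f k pre = true → k + f = 9 → 5 ≤ k →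
    pre.length = k → (∀ i < 5, pre.getD i 0 = deadPre.getD i 0) → Sends φ pre → False := by
  intro f
  induction f with
  | zero => intro k pre h; exact Bool.noConfusion h
  | succ f ih =>
    intro k pre h hkf hk hlen hpre hs
    let K : Fin 9 := ⟨k, by omega⟩
    obtain ⟨r, hr⟩ := image_point φ (fr K)
    have hadj : ∀ i : ℕ, i < k → ∃ q : Fin N, (q : ℕ) = pre.getD i 0 ∧ adjB q r = pat k i ∧ (r : ℕ) ≠ q := by
      intro i hi
      have hi9 : i < 9 := by omega
      obtain ⟨hlt, hsi⟩ := hs ⟨i, hi9⟩ (by rw [hlen]; exact hi)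
      refine ⟨mkP (pre.getD i 0), mkP_val hlt, ?_, ?_⟩
      · rw [adj_image φ hsi hr, show pat k i = pat (K : ℕ) ((⟨i, hi9⟩ : Fin 9) : ℕ) from rfl, pat_eq]
      · intro e
        rw [Fin.ext e, ← hsi] at hr
        have := congrArg Fin.val (dT_inj (φ.injective hr))
        rw [fr_val, fr_val] at this
        have := congrArg Fin.val (frame_inj K ⟨i, hi9⟩ this)
        simp only [K] at this
        omega
    have hdead : ∀ j ≤ 5, deadPat k r j = true := by
      intro j
      induction j with
      | zero => intro _; rfl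
      | succ j ihj =>
        intro hj
        obtain ⟨q, hq, hqa, -⟩ := hadj j (by omega)
        obtain ⟨d1, d2⟩ := dead_pre ⟨j, by omega⟩
        have hqf : q = fr ⟨deadIdx j, d1⟩ := Fin.ext (by rw [hq, hpre j (by omega), fr_val]; exact d2)
        unfold deadPat
        rw [ihj (by omega), show adjF (deadIdx j) r = adjF ((⟨deadIdx j, d1⟩ : Fin 9) : ℕ) r from rfl, adjF_eq,
          ← hqf, hqa]
        simp
    have hB : (r : ℕ) ∈ deadB k := by
      have := dead_lists ⟨k - 5, by omega⟩
      rw [show 5 + ((⟨k - 5, by omega⟩ : Fin 4) : ℕ) = k by simp only; omega] at this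
      exact deadListGo_spec this r r.isLt (hdead 5 le_rfl)
    have hext : ∀ j ≤ k, extPat k pre r j = true := by
      intro j
      induction j with
      | zero => intro _; rfl
      | succ j ihj =>
        intro hj
        obtain ⟨q, hq, hqa, hne⟩ := hadj j (by omega)
        unfold extPat
        rw [← hq, hqa, ihj (by omega), show Nat.beq (r : ℕ) q = false by
          rw [Bool.eq_false_iff]; exact fun e => hne (Nat.eq_of_beq_eq_true e)]
        simp
    simp only [deadGo, List.all_eq_true, Bool.or_eq_true, Bool.not_eq_true'] at h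
    rcases h _ hB with h' | h'
    · rw [hext k le_rfl] at h'; exact Bool.noConfusion h'
    · refine ih (k + 1) _ h' (by omega) (by omega) (by simp [hlen]) (fun i hi => ?_) ?_
      · rw [List.getD_append _ _ _ _ (by omega)]; exact hpre i hi
      · intro i hi
        rw [List.length_append, List.length_singleton, hlen] at hi
        rcases Nat.lt_or_ge (i : ℕ) k with hik | hik
        · rw [List.getD_append _ _ _ _ (by omega)]
          exact hs i (by omega)
        · have hiK : i = K := Fin.ext (by simp only [K]; omega)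
          rw [List.getD_append_right _ _ _ _ (by omega), show (i : ℕ) - pre.length = 0 by omega]
          simp only [List.getD_cons_zero]
          exact ⟨r.isLt, by rw [mkP_coe, hiK, hr]⟩

theorem dead {φ : MulAut G} (h : Keeps φ 4) (h40 : φ (dT (fr 4)) = dT (mkP 40)) : False := by
  refine dead_sound (φ := φ) 4 5 deadPre dead_ok rfl le_rfl rfl (fun _ _ => rfl) fun i hi => ?_
  change (i : ℕ) < 5 at hi
  rcases Nat.lt_or_ge (i : ℕ) 4 with hi4 | hi4
  · have e : deadPre.getD i 0 = fP i := by
      obtain ⟨v, hv⟩ := i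
      simp only at hi4 ⊢
      rcases v with _ | _ | _ | _ | v <;> first | rfl | omega
    rw [e]
    exact ⟨(gp_ok i).2.1, h i hi4⟩
  · rw [show i = 4 from Fin.ext (show (i : ℕ) = 4 by omega)]
    exact ⟨by decide +kernel, h40⟩

theorem eval_flatMap (ψ : G →* G) (hψ : ∀ x < 9, ψ (σ x) = evalW σ (outW x)) :
    ∀ w : List ℕ, (∀ x ∈ w, x < 9) → evalW σ (w.flatMap outW) = ψ (evalW σ w) := by
  intro w
  induction w with
  | nil => intro; simp [evalW]
  | cons a w ih =>
    intro hw
    rw [List.flatMap_cons, evalW_append, ih fun x hx => hw x (List.mem_cons_of_mem _ hx), evalW, map_mul,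
      hψ a (hw a List.mem_cons_self)]

theorem outW_sq (x : ℕ) : evalW σ (outW x) * evalW σ (outW x) = 1 := by
  unfold outW
  cases hb : Nat.beq x 7
  · simp [evalW, PresFi22.gens_sq]
  · rw [cond_true, show evalW σ (dW 424) = dT (mkP 424) by rw [← eval_dW, mkP_val (by norm_num)], dT]
    rw [show toP (mkP 424) * σ 0 * (toP (mkP 424))⁻¹ * (toP (mkP 424) * σ 0 * (toP (mkP 424))⁻¹) =
      toP (mkP 424) * (σ 0 * σ 0) * (toP (mkP 424))⁻¹ by group, PresFi22.gens_sq, mul_one, mul_inv_cancel]

theorem exists_outer : ∃ ω : MulAut G, Keeps ω 4 ∧ ω (dT (fr 4)) = dT (mkP 424) ∧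
    ω (dT (mkP 424)) = dT (fr 4) ∧ ∀ i : Fin 9, (i : ℕ) ≠ 4 → ω (dT (fr i)) = dT (fr i) := by
  have hl : ∀ w ∈ PresFi22.relList, ∀ x ∈ w, x < 9 := by
    have : PresFi22.relList.all lt9 = true := by decide +kernel
    exact fun w hw => lt9_spec (List.all_eq_true.1 this w hw)
  have key : ∀ w : List ℕ, evalW σ (w.flatMap outW) = evalW (fun x => evalW σ (outW x)) w := by
    intro w
    induction w with
    | nil => rfl
    | cons a w ih => rw [List.flatMap_cons, evalW_append, ih]; rfl
  obtain ⟨ψ, hψ⟩ := PresFi22.exists_hom (fun x => evalW σ (outW x)) outW_sq (fun w hw => by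
    rw [← key, eq_on_frame (List.all_eq_true.1 out_rel w hw)]; rfl)
  have hgen : ∀ x < 9, x ≠ 7 → ψ (σ x) = σ x := by
    intro x hx h7
    rw [hψ x hx, outW, show Nat.beq x 7 = false by
      rw [Bool.eq_false_iff]; exact fun e => h7 (Nat.eq_of_beq_eq_true e), cond_false]
    simp [evalW]
  have h424 : evalW σ (dW 424) = dT (mkP 424) := by rw [← eval_dW, mkP_val (by norm_num)]
  have h7 : ψ (σ 7) = dT (mkP 424) := by rw [hψ 7 (by norm_num), ← h424]; rfl
  have hback : ψ (dT (mkP 424)) = σ 7 := by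
    rw [← h424, ← eval_flatMap ψ hψ _ (by
      have := lt9_dW (mkP 424); rwa [mkP_val (by norm_num)] at this), eq_on_frame out_inv]
    simp [evalW]
  have hinv : ψ.comp ψ = MonoidHom.id G := by
    refine MonoidHom.eq_of_eqOn_dense PresFi22.gens_top ?_
    rintro _ ⟨n, rfl⟩
    show ψ (ψ (σ n)) = σ n
    by_cases hn : n < 9
    · by_cases h : n = 7
      · subst h; rw [h7, hback]
      · rw [hgen n hn h, hgen n hn h]
    · rw [PresFi22.gens_out n (Nat.le_of_not_lt hn), map_one, map_one]
  have hkeep : ∀ i : Fin 9, (i : ℕ) ≠ 4 → ψ (dT (fr i)) = dT (fr i) := fun i hi => by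
    rw [dT_fr]; exact hgen _ (gp_ok i).1 (out_stage.2 i hi)
  have h4 : dT (fr 4) = σ 7 := by rw [dT_fr]; exact congrArg σ out_stage.1
  refine ⟨MonoidHom.toMulEquiv ψ ψ hinv hinv, fun i hi => hkeep i (by omega), ?_, ?_, hkeep⟩
  · show ψ (dT (fr 4)) = _; rw [h4, h7]
  · show ψ (dT (mkP 424)) = _; rw [h4, hback]

theorem card_out : Nat.card (Cfsg.Out G) = 2 := by
  classical
  obtain ⟨ω, hω4, hω, hω', hωk⟩ := exists_outer
  let F : Bool → Cfsg.Out G := fun b => if b then (ω : Cfsg.Out G) else 1
  have hsurj : Function.Surjective F := by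
    intro o
    obtain ⟨φ, rfl⟩ := QuotientGroup.mk_surjective o
    obtain ⟨g, hg⟩ := advance_to φ 0 (fun i hi => absurd hi (Nat.not_lt_zero _)) 4 (by norm_num) (by norm_num)
      fun k _ h2 => by omega
    have hmk : ∀ c : G, ∀ ψ : MulAut G, ((MulAut.conj c * ψ : MulAut G) : Cfsg.Out G) = (ψ : Cfsg.Out G) :=
      fun c ψ => by rw [QuotientGroup.mk_mul, (QuotientGroup.eq_one_iff _).2 (conj_mem c), one_mul]
    rw [← hmk g φ]
    set φ1 := MulAut.conj g * φ
    obtain ⟨r, hr⟩ := image_point φ1 (fr 4)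
    have hb := coverGo_spec (cover_ok 4) r r.isLt (hasPat_image (k := 4) hg hr)
    rw [cover, show Nat.beq ((4 : Fin 9) : ℕ) 4 = true from rfl, cond_true, bit_eq] at hb
    simp only [show ∀ a b : ℕ, Nat.lor a b = a ||| b from fun _ _ => rfl, Nat.testBit_or, Bool.or_eq_true] at hb
    simp only [← bit_eq] at hb
    rcases hb with hb | hb | hb
    · obtain ⟨h, hh, he⟩ := stage_reach 4 hb
      refine ⟨false, ?_⟩
      have := inner_of_five (keeps_succ (k := 4) (move hg hh) (move_to hr he))
      rw [← hmk h⁻¹ φ1, (QuotientGroup.eq_one_iff _).2 this]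
      rfl
    · obtain ⟨h, hh, he⟩ := alt_reach 0 hb
      rw [show (altD ((0 : Fin 2) : ℕ)).1 = 424 from alt_points.1] at he
      refine ⟨true, ?_⟩
      have h5 : Keeps (ω * (MulAut.conj h⁻¹ * φ1)) 5 := by
        refine keeps_succ (k := 4) (fun i hi => ?_) ?_
        · rw [MulAut.mul_apply, move hg hh i hi]; exact hω4 i hi
        · rw [MulAut.mul_apply, move_to hr he]; exact hω'
      have h6 := (QuotientGroup.eq_one_iff _).2 (inner_of_five h5)
      rw [QuotientGroup.mk_mul, hmk, mul_eq_one_iff_inv_eq] at h6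
      rw [← h6]
      have hsq : ω * ω ∈ Inn G := by
        refine inner_of_five (keeps_succ (k := 4) (fun i hi => ?_) ?_)
        · rw [MulAut.mul_apply, hω4 i hi, hω4 i hi]
        · rw [MulAut.mul_apply, hω, hω']
      have h7 := (QuotientGroup.eq_one_iff _).2 hsq
      rw [QuotientGroup.mk_mul, mul_eq_one_iff_eq_inv] at h7
      exact h7
    · obtain ⟨h, hh, he⟩ := alt_reach 1 hb
      rw [show (altD ((1 : Fin 2) : ℕ)).1 = 40 from alt_points.2.1] at he
      exact (dead (move hg hh) (move_to hr he)).elim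
  haveI : Finite (Cfsg.Out G) := Finite.of_surjective F hsurj
  refine le_antisymm ((Nat.card_le_card_of_surjective F hsurj).trans (by simp)) ?_
  haveI : Nontrivial (Cfsg.Out G) := by
    refine ⟨⟨(ω : Cfsg.Out G), 1, fun e => ?_⟩⟩
    obtain ⟨c, hc⟩ := MonoidHom.mem_range.1 ((QuotientGroup.eq_one_iff ω).1 e)
    refine split_not_reach ⟨c, fun i hi => ?_, ?_⟩
    · have := hω4 i hi
      rw [← hc, MulAut.conj_apply, conj_dT] at this
      exact dT_inj this
    · rw [← hc, MulAut.conj_apply, conj_dT] at hω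
      exact dT_inj hω
  exact Finite.one_lt_card

end Cfsg.Agent.Suzuki.Fi22Out
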