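import Cfsg.Agent.Suzuki.Fi22Out.Checks
import Cfsg.Agent.Fischer.Fi22Transp
import Cfsg.Agent.Screen.CosetEnum.Fi22Ord.Main

/-!
The 3510 transpositions of the presented Fischer group as points, and the stabiliser chain of the generators
-/

set_option autoImplicit false
set_option maxRecDepth 20000

namespace Cfsg.Agent.Suzuki.Fi22Out

open Cfsg Cfsg.Agent.Screen.CosetEnum

local notation "G" => Cfsg.Spor.Fi22
local notation "σ" => PresFi22.gens
local notation "T" => Fi22U62.tbl
local notation "N" => Tab.n Fi22U62.tbl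

theorem simpleG : IsSimpleGroup G := Fi22Ord.isSimple_and_card.1

theorem cardG : Nat.card G = 64561751654400 := Fi22Ord.isSimple_and_card.2

theorem finiteG : Finite G := Nat.finite_of_card_ne_zero (by rw [cardG]; norm_num)

theorem exists_act : ∃ f : G →* Equiv.Perm (Fin N), ∀ x < 9, f (σ x) = Fi22U62.checked.perm x :=
  PresFi22.exists_hom Fi22U62.checked.perm (fun x => Fi22U62.checked.perm_sq x) Fi22U62.checked.perm_rel

/-- The action on the transpositions. -/
noncomputable def act : G →* Equiv.Perm (Fin N) := exists_act.choose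

theorem act_gen {x : ℕ} (hx : x < 9) : act (σ x) = Fi22U62.checked.perm x := exists_act.choose_spec x hx

/-- The base point. -/
def p0 : Fin N := ⟨0, Fi22U62.checked.pos⟩

theorem act_eval : ∀ w : List ℕ, (∀ x ∈ w, x < 9) → ∀ c : Fin N,
    ((act (evalW σ w) c : Fin N) : ℕ) = Tab.app T w c := by
  intro w hw c
  rw [show act (evalW σ w) = evalW Fi22U62.checked.perm w from ?_]
  · exact Fi22U62.checked.app_eq w hw c
  · clear c
    induction w with
    | nil => simp [evalW]
    | cons a w ih =>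
      rw [evalW, evalW, map_mul, ih fun x hx => hw x (List.mem_cons_of_mem _ hx),
        act_gen (hw a List.mem_cons_self)]

theorem lt9_spec {w : List ℕ} (h : lt9 w = true) : ∀ x ∈ w, x < 9 := fun x hx => by
  simpa [Nat.blt_eq] using List.all_eq_true.1 h x hx

theorem cent_eq : Subgroup.centralizer ({σ 0} : Set G) = Fischer.Fi22Transp.U :=
  haveI := finiteG
  (Fischer.Fi22Transp.transpositions simpleG).2.2.1

theorem stab_zero (g : G) : act g p0 = p0 ↔ g * σ 0 = σ 0 * g := by
  obtain ⟨e, he0, he⟩ := Fi22U62.checked.exists_equiv σ PresFi22.gens_sq PresFi22.gens_out PresFi22.gens_rels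
    PresFi22.gens_top Fischer.Fi22Transp.U rfl act fun x hx => act_gen hx
  rw [← Subgroup.mem_centralizer_singleton_iff, cent_eq]
  constructor
  · intro h
    have h1 : g • e p0 = e p0 := by rw [he, h]
    rw [p0, he0, MulAction.Quotient.smul_mk, smul_eq_mul, mul_one, QuotientGroup.eq, mul_one] at h1
    simpa using inv_mem h1
  · intro h
    apply e.injective
    rw [← he, p0, he0, MulAction.Quotient.smul_mk, smul_eq_mul, mul_one, QuotientGroup.eq, mul_one]
    exact inv_mem h

theorem rwGo_spec : ∀ {k : ℕ}, rwGo k = true → ∀ c < k, lt9 (rw' c) = true ∧ Tab.app T (rw' c) 0 = c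
  | 0, _, c, hc => absurd hc (Nat.not_lt_zero c)
  | k + 1, h, c, hc => by
    simp only [rwGo, Bool.and_eq_true] at h
    rcases Nat.lt_or_ge c k with hc' | hc'
    · exact rwGo_spec h.2 c hc'
    · obtain rfl : c = k := by omega
      exact ⟨h.1.1, Nat.eq_of_beq_eq_true h.1.2⟩

/-- An element carrying the base point to a point. -/
noncomputable def toP (q : Fin N) : G := evalW σ (rw' q)

theorem toP_spec (q : Fin N) : act (toP q) p0 = q :=
  Fin.ext ((act_eval _ (lt9_spec (rwGo_spec rw_ok q q.isLt).1) p0).trans (rwGo_spec rw_ok q q.isLt).2)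

/-- The transposition of a point. -/
noncomputable def dT (q : Fin N) : G := toP q * σ 0 * (toP q)⁻¹

theorem lt9_dW (q : Fin N) : ∀ x ∈ dW q, x < 9 := by
  intro x hx
  have h := lt9_spec (rwGo_spec rw_ok q q.isLt).1
  simp only [dW, List.mem_append, List.mem_reverse, List.mem_singleton] at hx
  rcases hx with (hx | hx) | hx
  · exact h x hx
  · omega
  · exact h x hx

theorem eval_dW (q : Fin N) : evalW σ (dW q) = dT q := by
  rw [dW, evalW_append, evalW_append, evalW_reverse PresFi22.gens_sq, dT, toP]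
  simp [evalW, mul_assoc]

theorem conj_spec (g : G) : g * σ 0 * g⁻¹ = dT (act g p0) := by
  have h : act ((toP (act g p0))⁻¹ * g) p0 = p0 := by
    rw [map_mul, Equiv.Perm.mul_apply, map_inv, Equiv.Perm.inv_eq_iff_eq, toP_spec]
  have h1 := (stab_zero _).1 h
  rw [dT]
  calc g * σ 0 * g⁻¹ = toP (act g p0) * ((toP (act g p0))⁻¹ * g * σ 0) * g⁻¹ := by group
    _ = toP (act g p0) * (σ 0 * ((toP (act g p0))⁻¹ * g)) * g⁻¹ := by rw [h1]
    _ = _ := by group

theorem conj_dT (g : G) (q : Fin N) : g * dT q * g⁻¹ = dT (act g q) := by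
  have := conj_spec (g * toP q)
  rw [map_mul, Equiv.Perm.mul_apply, toP_spec] at this
  rw [← this, dT]
  group

theorem dT_inj {q r : Fin N} (h : dT q = dT r) : q = r := by
  have h1 : (toP r)⁻¹ * toP q * σ 0 = σ 0 * ((toP r)⁻¹ * toP q) := by
    calc (toP r)⁻¹ * toP q * σ 0 = (toP r)⁻¹ * (dT q) * toP q := by rw [dT]; group
      _ = (toP r)⁻¹ * (dT r) * toP q := by rw [h]
      _ = _ := by rw [dT]; group
  have h2 := (stab_zero _).2 h1
  rw [map_mul, Equiv.Perm.mul_apply, toP_spec, map_inv, Equiv.Perm.inv_eq_iff_eq, toP_spec] at h2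
  exact h2

theorem fix_iff (g : G) (q : Fin N) : g * dT q = dT q * g ↔ act g q = q := by
  rw [← mul_inv_eq_iff_eq_mul, conj_dT]
  exact ⟨dT_inj, fun h => by rw [h]⟩

theorem act_dW (q r : Fin N) : ((act (dT q) r : Fin N) : ℕ) = Tab.app T (dW q) r := by
  rw [← eval_dW, act_eval _ (lt9_dW q)]

theorem adjB_iff (q r : Fin N) : adjB q r = true ↔ dT q * dT r = dT r * dT q := by
  rw [fix_iff, Fin.ext_iff, act_dW, adjB]
  exact ⟨Nat.eq_of_beq_eq_true, fun h => by rw [h]; exact Nat.beq_refl _⟩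

theorem adjB_congr {q r q' r' : Fin N} (h : dT q * dT r = dT r * dT q ↔ dT q' * dT r' = dT r' * dT q') :
    adjB q r = adjB q' r' := by
  rw [Bool.eq_iff_iff, adjB_iff, adjB_iff, h]

theorem adjB_act (g : G) (q r : Fin N) : adjB (act g q) (act g r) = adjB q r := by
  refine adjB_congr ?_
  rw [← conj_dT, ← conj_dT]
  constructor
  · intro h
    calc dT q * dT r = g⁻¹ * (g * dT q * g⁻¹ * (g * dT r * g⁻¹)) * g := by group
      _ = g⁻¹ * (g * dT r * g⁻¹ * (g * dT q * g⁻¹)) * g := by rw [h]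
      _ = dT r * dT q := by group
  · intro h
    calc g * dT q * g⁻¹ * (g * dT r * g⁻¹) = g * (dT q * dT r) * g⁻¹ := by group
      _ = g * (dT r * dT q) * g⁻¹ := by rw [h]
      _ = _ := by group

/-- The point of a number below 3510. -/
def mkP (q : ℕ) : Fin N := if h : q < N then ⟨q, h⟩ else p0

theorem mkP_val {q : ℕ} (h : q < 3510) : ((mkP q : Fin N) : ℕ) = q := by
  unfold mkP; rw [dif_pos (show q < N from h)]

theorem mkP_coe (q : Fin N) : mkP (q : ℕ) = q := by
  unfold mkP; rw [dif_pos q.isLt]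

/-- The frame points. -/
noncomputable def fr (k : Fin 9) : Fin N := mkP (fP k)

theorem fr_val (k : Fin 9) : ((fr k : Fin N) : ℕ) = fP k := mkP_val (gp_ok k).2.1

theorem gen_conj (g : G) {i j : ℕ} (h : (σ i * σ j) ^ 3 = 1) (hg : g * σ 0 * g⁻¹ = σ i) :
    σ i * σ j * g * σ 0 * (σ i * σ j * g)⁻¹ = σ j := by
  rw [show σ i * σ j * g * σ 0 * (σ i * σ j * g)⁻¹ = σ i * σ j * (g * σ 0 * g⁻¹) * (σ i * σ j)⁻¹ by group, hg]
  exact Fischer.Fi22Transp.conj_of_cube (PresFi22.gens_sq i) (PresFi22.gens_sq j) h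

theorem gPath_conj : ∀ j : Fin 9,
    evalW σ (gPath.getD j []) * σ 0 * (evalW σ (gPath.getD j []))⁻¹ = σ j := by
  have hc : ∀ x y : Spor.Fi22.Gen, Spor.coxLabel Spor.Fi22.edges x y = 3 →
      (σ (PresFi22.idx x) * σ (PresFi22.idx y)) ^ 3 = 1 := by
    intro x y h
    rw [PresFi22.gens_idx, PresFi22.gens_idx, ← h]
    exact PresFi22.gens_cox x y
  have step : ∀ (w : List ℕ) (i j : ℕ), (σ i * σ j) ^ 3 = 1 → evalW σ w * σ 0 * (evalW σ w)⁻¹ = σ i →
      evalW σ (w ++ [j, i]) * σ 0 * (evalW σ (w ++ [j, i]))⁻¹ = σ j := by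
    intro w i j h hw
    rw [evalW_append]
    simp only [evalW, one_mul]
    exact gen_conj _ h hw
  have h0 : evalW σ [] * σ 0 * (evalW σ [])⁻¹ = σ 0 := by simp [evalW]
  have h1 := step [] 0 1 (hc .a .b (by decide)) h0
  have h2 := step _ 1 2 (hc .b .c (by decide)) h1
  have h3 := step _ 2 3 (hc .c .d (by decide)) h2
  have h4 := step _ 3 4 (hc .d .e (by decide)) h3
  have h5 := step _ 4 5 (hc .e .f (by decide)) h4
  have h6 := step _ 5 6 (hc .f .g (by decide)) h5
  have h7 := step _ 3 7 (hc .d .h (by decide)) h3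
  have h8 := step _ 7 8 (hc .h .i (by decide)) h7
  intro j
  fin_cases j
  exacts [h0, h1, h2, h3, h4, h5, h6, h7, h8]

theorem dT_fr (k : Fin 9) : dT (fr k) = σ (fG k) := by
  obtain ⟨hj, -, hw⟩ := gp_ok k
  have hl : ∀ x ∈ gPath.getD (fG k) [], x < 9 := by
    have : ∀ j : Fin 9, lt9 (gPath.getD j []) = true := by decide +kernel
    exact lt9_spec (this ⟨fG k, hj⟩)
  have h := gPath_conj ⟨fG k, hj⟩
  rw [conj_spec] at h
  rw [← h]
  refine congrArg dT (Fin.ext ?_)
  rw [fr_val, act_eval _ hl, ← hw]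
  rfl

theorem eq_one_of_fix {g : G} (h : ∀ k : Fin 9, act g (fr k) = fr k) : g = 1 := by
  haveI := simpleG
  haveI := finiteG
  have hc : g ∈ Subgroup.center G := by
    rw [Subgroup.mem_center_iff]
    intro y
    have hy : y ∈ Subgroup.centralizer ({g} : Set G) := by
      refine (PresFi22.gens_top ▸ (Subgroup.closure_le _).2 ?_ : (⊤ : Subgroup G) ≤ _) (Subgroup.mem_top y)
      rintro _ ⟨n, rfl⟩
      rw [SetLike.mem_coe, Subgroup.mem_centralizer_singleton_iff]
      by_cases hn : n < 9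
      · obtain ⟨k, hk⟩ := order_cover ⟨n, hn⟩
        rw [← show fG k = n from hk, ← dT_fr]
        exact ((fix_iff g _).2 (h k)).symm
      · rw [PresFi22.gens_out n (Nat.le_of_not_lt hn), one_mul, mul_one]
    exact Subgroup.mem_centralizer_singleton_iff.1 hy
  rcases Subgroup.Normal.eq_bot_or_eq_top (inferInstance : (Subgroup.center G).Normal) with hb | ht
  · rw [hb, Subgroup.mem_bot] at hc
    exact hc
  · exfalso
    have hU : ∀ q : Fin N, q = p0 := by
      intro q
      have : toP q * σ 0 = σ 0 * toP q := Subgroup.mem_center_iff.1 (ht ▸ Subgroup.mem_top (σ 0)) (toP q)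
      rw [← toP_spec q]
      exact (stab_zero _).2 this
    have := hU (mkP 1)
    have h1 : ((mkP 1 : Fin N) : ℕ) = 0 := by rw [this]; rfl
    rw [mkP_val (by norm_num)] at h1
    exact one_ne_zero h1

theorem eq_on_frame {v w : List ℕ} (h : frameEq v w = true) : evalW σ v = evalW σ w := by
  simp only [frameEq, Bool.and_eq_true, List.all_eq_true, List.mem_range] at h
  have hv : ∀ x ∈ v, x < 9 := fun x hx => by simpa [Nat.blt_eq] using List.all_eq_true.1 h.1.1 x hx
  have hw : ∀ x ∈ w, x < 9 := fun x hx => by simpa [Nat.blt_eq] using List.all_eq_true.1 h.1.2 x hx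
  refine inv_mul_eq_one.1 (eq_one_of_fix fun k => ?_)
  rw [map_mul, Equiv.Perm.mul_apply, map_inv, Equiv.Perm.inv_eq_iff_eq]
  refine Fin.ext ?_
  rw [act_eval _ hw, act_eval _ hv, fr_val]
  exact (Nat.eq_of_beq_eq_true (h.2 k k.isLt)).symm

end Cfsg.Agent.Suzuki.Fi22Out
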