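import Cfsg.Agent.Suzuki.Fi22Out.Chain

/-!
An element of order eleven, its centraliser, and the invariance of the class of transpositions
-/

set_option autoImplicit false
set_option maxRecDepth 20000

namespace Cfsg.Agent.Suzuki.Fi22Out

open Cfsg Cfsg.Agent.Screen.CosetEnum

local notation "G" => Cfsg.Spor.Fi22
local notation "σ" => PresFi22.gens
local notation "T" => Fi22U62.tbl
local notation "N" => Tab.n Fi22U62.tbl

/-- The element of order eleven. -/
noncomputable def el : G := evalW σ xWord

theorem xGo_spec : ∀ {k : ℕ}, xGo k = true → ∀ c < k, Tab.app T xWord c = xT c ∧ (c = 0 ∨ xT c ≠ c)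
  | 0, _, c, hc => absurd hc (Nat.not_lt_zero c)
  | k + 1, h, c, hc => by
    simp only [xGo, Bool.and_eq_true, Bool.or_eq_true, Bool.not_eq_true'] at h
    rcases Nat.lt_or_ge c k with hc' | hc'
    · exact xGo_spec h.2 c hc'
    · obtain rfl : c = k := by omega
      refine ⟨Nat.eq_of_beq_eq_true h.1.1, ?_⟩
      rcases h.1.2 with h' | h'
      · exact Or.inl (Nat.eq_of_beq_eq_true h')
      · exact Or.inr fun e => by rw [e, Nat.beq_refl] at h'; exact Bool.noConfusion h'

theorem act_el (q : Fin N) : ((act el q : Fin N) : ℕ) = xT q := by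
  rw [el, act_eval _ (lt9_spec x_order.1)]
  exact (xGo_spec x_table q q.isLt).1

theorem act_el_pow (q : Fin N) : ∀ i : ℕ, ((act (el ^ i) q : Fin N) : ℕ) = xIt i q
  | 0 => by simp [xIt]
  | i + 1 => by
    rw [pow_succ', map_mul, Equiv.Perm.mul_apply, act_el, act_el_pow q i, xIt, force_eq]

theorem el_fix (q : Fin N) : act el q = q ↔ q = p0 := by
  constructor
  · intro h
    rcases (xGo_spec x_table q q.isLt).2 with h0 | h0
    · exact Fin.ext h0
    · exact absurd (by rw [← act_el, h]) h0
  · rintro rfl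
    exact Fin.ext ((act_el p0).trans x_order.2.1)

theorem el_order : orderOf el = 11 := by
  haveI : Fact (Nat.Prime 11) := ⟨by norm_num⟩
  refine orderOf_eq_prime (eq_one_of_fix fun k => Fin.ext ?_) fun h => x_order.2.2.1 ?_
  · rw [act_el_pow, fr_val]; exact x_order.2.2.2 k
  · have := act_el (mkP 1)
    rw [h, map_one, Equiv.Perm.one_apply, mkP_val (by norm_num)] at this
    exact this.symm

/-- The points of the invariant of a point. -/
noncomputable def ptP (r : Fin N) (i : ℕ) : Fin N := if i = 0 then p0 else act (el ^ (i - 1)) r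

theorem ptP_val (r : Fin N) (i : ℕ) : ((ptP r i : Fin N) : ℕ) = pts r i := by
  unfold ptP pts
  by_cases h : i = 0
  · subst h; rfl
  · rw [if_neg h, act_el_pow]
    cases hb : Nat.beq i 0
    · rfl
    · exact absurd (Nat.eq_of_beq_eq_true hb) h

/-- The probed point. -/
noncomputable def probeP (r : Fin N) (p : ℕ × ℕ × ℕ × ℕ) : Fin N :=
  if p.2.2.1 < 12 then act (dT (act (dT (ptP r p.1)) (ptP r p.2.1))) (ptP r p.2.2.1)
  else act (dT (ptP r p.1)) (ptP r p.2.1)

theorem probe_eq (r : Fin N) (p : ℕ × ℕ × ℕ × ℕ) : probe r p = adjB (probeP r p) (ptP r p.2.2.2) := by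
  simp only [probe, force_eq, probeP, ← ptP_val, ← act_dW]
  by_cases h : p.2.2.1 < 12
  · rw [if_pos h, show Nat.blt p.2.2.1 12 = true by simpa [Nat.blt_eq] using h, cond_true]
  · rw [if_neg h, show Nat.blt p.2.2.1 12 = false by
      rw [Bool.eq_false_iff]; simpa [Nat.blt_eq] using h, cond_false]

theorem act_act_dT (g : G) (u v : Fin N) : act g (act (dT u) v) = act (dT (act g u)) (act g v) := by
  rw [← Equiv.Perm.mul_apply, ← map_mul, ← Equiv.Perm.mul_apply, ← map_mul, ← conj_dT, inv_mul_cancel_right]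

theorem cent_el_ptP {g : G} (hg : g * el = el * g) (r : Fin N) (i : ℕ) :
    act g (ptP r i) = ptP (act g r) i := by
  have h0 : act g p0 = p0 := by
    refine (el_fix _).1 ?_
    rw [← Equiv.Perm.mul_apply, ← map_mul, ← hg, map_mul, Equiv.Perm.mul_apply, (el_fix p0).2 rfl]
  unfold ptP
  by_cases h : i = 0
  · rw [if_pos h, if_pos h, h0]
  · rw [if_neg h, if_neg h, ← Equiv.Perm.mul_apply, ← map_mul, ← Equiv.Perm.mul_apply, ← map_mul,
      (show Commute g el from hg).pow_right (i - 1) |>.eq]

theorem adjF_eq (i : Fin 9) (r : Fin N) : adjF i r = adjB (fr i) r := by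
  have h : ((act (dT (fr i)) r : Fin N) : ℕ) = Tab.img T r (fG i) := by
    rw [dT_fr, act_gen (gp_ok i).1, Fi22U62.checked.perm_apply (gp_ok i).1]
  rw [adjF, adjB, ← h, act_dW]

theorem cand_mem {g : G} (hg : g * el = el * g) : ((act g (mkP 1) : Fin N) : ℕ) ∈ candList := by
  set r := act g (mkP 1) with hr
  have h1 : ((mkP 1 : Fin N) : ℕ) = 1 := mkP_val (by norm_num)
  have hz : ((fr 0 : Fin N)) = p0 := by
    refine Fin.ext ?_
    rw [fr_val]
    decide +kernel
  have hg0 : act g p0 = p0 := by
    have := cent_el_ptP hg (mkP 1) 0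
    simpa [ptP] using this
  have hne : (r : ℕ) ≠ 0 := by
    intro e
    have : r = act g p0 := by rw [hg0]; exact Fin.ext e
    rw [hr] at this
    have := congrArg Fin.val ((act g).injective this)
    rw [h1] at this
    exact one_ne_zero this
  have hcyc : cycOK r = true := by
    have hpow : ∀ i, adjB r (xIt i r) = adjB 1 (xIt i 1) := by
      intro i
      rw [← act_el_pow, ← h1, ← act_el_pow]
      have e : act (el ^ i) r = act g (act (el ^ i) (mkP 1)) := by
        rw [hr, ← Equiv.Perm.mul_apply, ← map_mul, ← Equiv.Perm.mul_apply, ← map_mul,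
          ((show Commute g el from hg).pow_right i).eq]
      rw [e, hr, adjB_act]
    have hprobe : ∀ p, probe r p = probe 1 p := by
      intro p
      rw [show probe 1 p = probe ((mkP 1 : Fin N) : ℕ) p by rw [h1], probe_eq, probe_eq, hr,
        ← cent_el_ptP hg]
      have : probeP (act g (mkP 1)) p = act g (probeP (mkP 1) p) := by
        unfold probeP
        simp only [← cent_el_ptP hg]
        split_ifs <;> simp only [act_act_dT]
      rw [this, adjB_act]
    have hF : adjF 0 r = adjF 0 1 := by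
      have a1 := adjF_eq 0 r
      have a2 := adjF_eq 0 (mkP 1)
      rw [h1] at a2
      rw [show ((0 : Fin 9) : ℕ) = 0 from rfl] at a1 a2
      rw [a1, a2, hz, hr]
      conv_lhs => rw [← hg0]
      rw [adjB_act, h1]
    simp [cycOK, hF, hpow, hprobe, List.all_eq_true]
  have hgo : ∀ {k : ℕ}, candGo k = true → ∀ c < k, c = 0 ∨ cycOK c = false ∨ c ∈ candList := by
    intro k
    induction k with
    | zero => intro _ c hc; exact absurd hc (Nat.not_lt_zero c)
    | succ k ih =>
      intro h c hc
      simp only [candGo, Bool.and_eq_true, Bool.or_eq_true, Bool.not_eq_true', List.contains_iff_mem] at h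
      rcases Nat.lt_or_ge c k with hc' | hc'
      · exact ih h.2 c hc'
      · obtain rfl : c = k := by omega
        rcases h.1 with (h' | h') | h'
        · exact Or.inl (Nat.eq_of_beq_eq_true h')
        · exact Or.inr (Or.inl h')
        · exact Or.inr (Or.inr h')
  rcases hgo cand_ok r r.isLt with h | h | h
  · exact absurd h hne
  · rw [hcyc] at h; exact Bool.noConfusion h
  · exact h

theorem closStart_spec {h : G} (hh : h * el = el * h) (h1 : act h (mkP 1) = mkP 1) :
    ∀ c, bit closStart c = true → ∃ q : Fin N, (q : ℕ) = c ∧ act h q = q := by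
  have key : ∀ (l : List ℕ) (s : ℕ), (∀ c, bit s c = true → ∃ q : Fin N, (q : ℕ) = c ∧ act h q = q) →
      ∀ c, bit (l.foldl (fun s i => addBit s (pts 1 i)) s) c = true → ∃ q : Fin N, (q : ℕ) = c ∧ act h q = q := by
    intro l
    induction l with
    | nil => exact fun s hs => hs
    | cons a l ih =>
      intro s hs
      refine ih _ fun c hc => ?_
      rw [bit_addBit, Bool.or_eq_true, decide_eq_true_iff] at hc
      rcases hc with hc | hc
      · exact hs c hc
      · refine ⟨ptP (mkP 1) a, ?_, by rw [cent_el_ptP hh, h1]⟩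
        rw [ptP_val, mkP_val (by norm_num), hc]
  exact key _ 0 fun c hc => by simp [bit_eq] at hc

theorem clos_spec {h : G} : ∀ (l : List ℕ) (s t : ℕ), clos l s = some t →
    (∀ c, bit s c = true → ∃ q : Fin N, (q : ℕ) = c ∧ act h q = q) →
    ∀ c, bit t c = true → ∃ q : Fin N, (q : ℕ) = c ∧ act h q = q := by
  intro l
  induction l with
  | nil =>
    intro s t e hs
    simp only [clos, Option.some.injEq] at e
    exact e ▸ hs
  | cons e l ih =>
    intro s t he hs
    unfold clos at he
    simp only [force_eq] at he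
    cases hb : (bit s (e / 64) && bit s (closGens.getD (e % 64) 0) && Nat.blt (e / 64) 3510 &&
        Nat.blt (closGens.getD (e % 64) 0) 3510) with
    | false => rw [hb, cond_false] at he; simp at he
    | true =>
      simp only [hb, cond_true] at he
      refine ih _ _ he fun c hc => ?_
      rw [bit_addBit, Bool.or_eq_true, decide_eq_true_iff] at hc
      rcases hc with hc | hc
      · exact hs c hc
      · simp only [Bool.and_eq_true] at hb
        obtain ⟨v, hv, hv'⟩ := hs _ hb.1.1.1
        obtain ⟨a, ha, ha'⟩ := hs _ hb.1.1.2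
        refine ⟨act (dT a) v, ?_, ?_⟩
        · rw [act_dW, hv, ha, hc]
        · rw [act_act_dT, hv', ha']

theorem fix_all {h : G} (hh : h * el = el * h) (h1 : act h (mkP 1) = mkP 1) : h = 1 := by
  refine eq_one_of_fix fun k => ?_
  obtain ⟨t, ht, htall⟩ := (Option.any_eq_true _ _).1 clos_ok
  have hb : bit t (fP k) = true := by
    rw [Nat.eq_of_beq_eq_true htall, bit_eq, Nat.testBit_two_pow_sub_one, decide_eq_true_iff]
    exact (gp_ok k).2.1
  obtain ⟨q, hq, hq'⟩ := clos_spec _ _ _ ht (closStart_spec hh h1) _ hb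
  rwa [show q = fr k from Fin.ext (hq.trans (fr_val k).symm)] at hq'

theorem card_cent_el : Nat.card (Subgroup.centralizer ({el} : Set G)) ≤ 22 := by
  classical
  have hmem : ∀ g : Subgroup.centralizer ({el} : Set G), (g : G) * el = el * g := fun g =>
    Subgroup.mem_centralizer_singleton_iff.1 g.2
  have h := Nat.card_le_card_of_injective
    (fun g : Subgroup.centralizer ({el} : Set G) =>
      (⟨_, List.mem_toFinset.2 (cand_mem (hmem g))⟩ : candList.toFinset)) ?_
  · refine h.trans ?_
    rw [Nat.card_eq_finsetCard]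
    exact (List.toFinset_card_le _).trans_eq cand_length
  intro a b e
  have e' : act (a : G) (mkP 1) = act (b : G) (mkP 1) := Fin.ext (congrArg Subtype.val e)
  have hc : (a : G)⁻¹ * b * el = el * ((a : G)⁻¹ * b) :=
    ((show Commute (a : G) el from hmem a).inv_left.mul_left (show Commute (b : G) el from hmem b)).eq
  refine Subtype.ext (inv_mul_eq_one.1 (fix_all hc ?_))
  rw [map_mul, Equiv.Perm.mul_apply, ← e', map_inv, Equiv.Perm.inv_eq_iff_eq]

theorem dT_p0 : dT p0 = σ 0 := by
  have := conj_spec 1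
  rw [map_one, Equiv.Perm.one_apply] at this
  rw [← this]; group

theorem el_comm : σ 0 * el = el * σ 0 :=
  (((stab_zero el).1 ((el_fix p0).2 rfl))).symm

theorem gen0_ne : σ 0 ≠ 1 := by
  intro h
  have := (stab_zero (toP (mkP 1))).2 (by rw [h, mul_one, one_mul])
  rw [toP_spec] at this
  have := congrArg Fin.val this
  rw [mkP_val (by norm_num)] at this
  exact one_ne_zero this

theorem involution_cent_el {t : G} (ht : t * t = 1) (ht1 : t ≠ 1) (hc : t * el = el * t) : t = σ 0 := by
  haveI := finiteG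
  haveI : Fact (Nat.Prime 2) := ⟨Nat.prime_two⟩
  have h0 : orderOf (σ 0) = 2 := orderOf_eq_prime (by rw [pow_two]; exact PresFi22.gens_sq 0) gen0_ne
  have hz : orderOf (el * σ 0) = 22 := by
    rw [(show Commute el (σ 0) from el_comm.symm).orderOf_mul_eq_mul_orderOf_of_coprime
      (by rw [el_order, h0]; norm_num), el_order, h0]
  have hsub : Subgroup.zpowers (el * σ 0) = Subgroup.centralizer ({el} : Set G) := by
    refine Subgroup.eq_of_le_of_card_ge (Subgroup.zpowers_le.2 ?_) ?_
    · rw [Subgroup.mem_centralizer_singleton_iff, mul_assoc, el_comm]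
    · rw [Nat.card_zpowers, hz]; exact card_cent_el
  have hm : t ∈ Subgroup.zpowers (el * σ 0) := by
    rw [hsub, Subgroup.mem_centralizer_singleton_iff]; exact hc
  rw [← mem_powers_iff_mem_zpowers] at hm
  obtain ⟨k, hk : (el * σ 0) ^ k = t⟩ := hm
  have h2 : (el * σ 0) ^ (k + k) = 1 := by rw [pow_add, hk, ht]
  have hd : 22 ∣ k + k := hz ▸ orderOf_dvd_of_pow_eq_one h2
  obtain ⟨m, rfl⟩ : 11 ∣ k := by omega
  have he : t = σ 0 ^ m := by
    rw [← hk, pow_mul, (show Commute el (σ 0) from el_comm.symm).mul_pow, show el ^ 11 = 1 from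
      el_order ▸ pow_orderOf_eq_one el, one_mul, pow_succ, show σ 0 ^ 10 = (σ 0 ^ 2) ^ 5 by rw [← pow_mul],
      pow_two, PresFi22.gens_sq, one_pow, one_mul]
  rcases Nat.even_or_odd m with hm2 | hm2
  · obtain ⟨j, rfl⟩ := hm2
    exact absurd (by rw [he, ← two_mul, pow_mul, pow_two, PresFi22.gens_sq, one_pow]) ht1
  · obtain ⟨j, rfl⟩ := hm2
    rw [he, pow_succ, pow_mul, pow_two, PresFi22.gens_sq, one_pow, one_mul]

theorem card_centralizer : Nat.card (Subgroup.centralizer ({σ 0} : Set G)) * 3510 = 64561751654400 := by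
  haveI := finiteG
  obtain ⟨e, -, -⟩ := Fi22U62.checked.exists_equiv σ PresFi22.gens_sq PresFi22.gens_out PresFi22.gens_rels
    PresFi22.gens_top Fischer.Fi22Transp.U rfl act fun x hx => act_gen hx
  have hidx : Fischer.Fi22Transp.U.index = 3510 := (Nat.card_congr e.symm).trans (Nat.card_fin _)
  rw [cent_eq, ← hidx, Subgroup.card_mul_index, cardG]

theorem sylow_eleven {y : G} (hy : orderOf y = 11) :
    ∃ P : Sylow 11 G, (P : Subgroup G) = Subgroup.zpowers y := by
  haveI := finiteG
  haveI : Fact (Nat.Prime 11) := ⟨by norm_num⟩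
  have hcard : Nat.card (Subgroup.zpowers y) = 11 ^ 1 := by rw [Nat.card_zpowers, hy, pow_one]
  obtain ⟨P, hP⟩ := (IsPGroup.of_card hcard).exists_le_sylow
  refine ⟨P, (Subgroup.eq_of_le_of_card_ge hP ?_).symm⟩
  obtain ⟨n, hn⟩ := (P.isPGroup').exists_card_eq
  have hd : 11 ^ n ∣ 64561751654400 := by rw [← hn, ← cardG]; exact Subgroup.card_subgroup_dvd_card _
  have hn2 : n ≤ 1 := by
    by_contra h
    have : 11 ^ 2 ∣ 64561751654400 := (pow_dvd_pow 11 (by omega : 2 ≤ n)).trans hd
    norm_num at this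
  rw [hn, hcard]
  exact Nat.pow_le_pow_right (by norm_num) hn2

theorem gen0_image (φ : MulAut G) : ∃ q : Fin N, φ (σ 0) = dT q := by
  haveI := finiteG
  haveI : Fact (Nat.Prime 11) := ⟨by norm_num⟩
  have hsub : Subgroup.centralizer ({φ (σ 0)} : Set G) =
      (Subgroup.centralizer ({σ 0} : Set G)).map φ.toMonoidHom := by
    ext y
    obtain ⟨z, rfl⟩ := φ.surjective y
    rw [Subgroup.mem_centralizer_singleton_iff, Subgroup.mem_map_equiv, φ.symm_apply_apply,
      Subgroup.mem_centralizer_singleton_iff, ← map_mul, ← map_mul, φ.injective.eq_iff]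
  have hdvd : 11 ∣ Nat.card (Subgroup.centralizer ({φ (σ 0)} : Set G)) := by
    rw [hsub, Subgroup.card_map_of_injective φ.injective]
    have := card_centralizer
    omega
  obtain ⟨y, hy⟩ := exists_prime_orderOf_dvd_card' 11 hdvd
  have hy' : orderOf (y : G) = 11 := by rw [Subgroup.orderOf_coe, hy]
  obtain ⟨P, hP⟩ := sylow_eleven hy'
  obtain ⟨Q, hQ⟩ := sylow_eleven el_order
  obtain ⟨g, hg⟩ := MulAction.exists_smul_eq G P Q
  have hmem : g * (y : G) * g⁻¹ ∈ Subgroup.zpowers el := by
    rw [← hQ, ← hg, Sylow.coe_subgroup_smul, hP]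
    exact ⟨_, Subgroup.mem_zpowers _, rfl⟩
  have hgen : el ∈ Subgroup.zpowers (g * (y : G) * g⁻¹) := by
    have : Subgroup.zpowers (g * (y : G) * g⁻¹) = Subgroup.zpowers el := by
      refine Subgroup.eq_of_le_of_card_ge (Subgroup.zpowers_le.2 hmem) ?_
      rw [Nat.card_zpowers, Nat.card_zpowers, el_order,
        show g * (y : G) * g⁻¹ = MulAut.conj g (y : G) from rfl, MulEquiv.orderOf_eq, hy']
    rw [this]; exact Subgroup.mem_zpowers _
  obtain ⟨i, hi⟩ := hgen
  have hc : Commute (g * φ (σ 0) * g⁻¹) el := by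
    rw [← show (g * (y : G) * g⁻¹) ^ i = el from hi]
    refine Commute.zpow_right ?_ i
    have hb : φ (σ 0) * (y : G) = (y : G) * φ (σ 0) := (Subgroup.mem_centralizer_singleton_iff.1 y.2).symm
    exact ((show Commute (φ (σ 0)) (y : G) from hb).map (MulAut.conj g).toMonoidHom)
  have hsq : φ (σ 0) * φ (σ 0) = 1 := by rw [← map_mul, PresFi22.gens_sq, map_one]
  have ht := involution_cent_el (t := g * φ (σ 0) * g⁻¹)
    (by rw [show g * φ (σ 0) * g⁻¹ * (g * φ (σ 0) * g⁻¹) = g * (φ (σ 0) * φ (σ 0)) * g⁻¹ by group, hsq,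
      mul_one, mul_inv_cancel])
    (fun h => gen0_ne (φ.injective (by
      rw [map_one]
      have := congrArg (fun z => g⁻¹ * z * g) h
      simpa [mul_assoc] using this)))
    hc.eq
  refine ⟨act g⁻¹ p0, ?_⟩
  rw [← conj_spec]
  conv_rhs => rw [← ht]
  group

theorem image_point (φ : MulAut G) (q : Fin N) : ∃ r : Fin N, φ (dT q) = dT r := by
  obtain ⟨r, hr⟩ := gen0_image φ
  exact ⟨act (φ (toP q)) r, by rw [dT, map_mul, map_mul, map_inv, hr, conj_dT]⟩

end Cfsg.Agent.Suzuki.Fi22Out
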