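import Cfsg.Agent.Suzuki.Fi22Out.Basic

/-!
The stabiliser chain of the generators
-/

set_option autoImplicit false
set_option maxRecDepth 20000

namespace Cfsg.Agent.Suzuki.Fi22Out

open Cfsg Cfsg.Agent.Screen.CosetEnum

local notation "G" => Cfsg.Spor.Fi22
local notation "σ" => PresFi22.gens
local notation "T" => Fi22U62.tbl
local notation "N" => Tab.n Fi22U62.tbl

/-- The stabiliser of the first `k` frame points. -/
noncomputable def stab (k : ℕ) : Subgroup G where
  carrier := {g | ∀ i : Fin 9, (i : ℕ) < k → act g (fr i) = fr i}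
  one_mem' := fun i _ => by simp
  mul_mem' := fun {a b} ha hb i hi => by rw [map_mul, Equiv.Perm.mul_apply, hb i hi, ha i hi]
  inv_mem' := fun {a} ha i hi => by rw [map_inv, Equiv.Perm.inv_eq_iff_eq, ha i hi]

theorem mem_stab {k : ℕ} {g : G} : g ∈ stab k ↔ ∀ i : Fin 9, (i : ℕ) < k → act g (fr i) = fr i := Iff.rfl

theorem fixFrame_spec {w : List ℕ} : ∀ {k : ℕ}, fixFrame w k = true → ∀ i < k, Tab.app T w (fP i) = fP i
  | 0, _, i, hi => absurd hi (Nat.not_lt_zero i)
  | k + 1, h, i, hi => by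
    simp only [fixFrame, Bool.and_eq_true] at h
    rcases Nat.lt_or_ge i k with hi' | hi'
    · exact fixFrame_spec h.2 i hi'
    · obtain rfl : i = k := by omega
      exact Nat.eq_of_beq_eq_true h.1

theorem grow_spec {k : ℕ} {p : Fin N} {W : List (List ℕ)}
    (hW : ∀ w ∈ W, lt9 w = true ∧ fixFrame w k = true) :
    ∀ (l : List ℕ) (s t : ℕ), grow W l s = some t →
      (∀ c, bit s c = true → ∃ g ∈ stab k, (act g p : ℕ) = c) →
      ∀ c, bit t c = true → ∃ g ∈ stab k, (act g p : ℕ) = c := by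
  intro l
  induction l with
  | nil =>
    intro s t h hs
    simp only [grow, Option.some.injEq] at h
    exact h ▸ hs
  | cons e l ih =>
    intro s t h hs
    unfold grow at h
    simp only [force_eq] at h
    cases hb : (bit s (e / 16) && Nat.blt (e / 16) 3510 && Nat.blt (e % 16) W.length) with
    | false => simp [hb] at h
    | true =>
      simp only [hb, cond_true] at h
      refine ih _ _ h fun c hc => ?_
      rw [bit_addBit, Bool.or_eq_true, decide_eq_true_iff] at hc
      rcases hc with hc | hc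
      · exact hs c hc
      · simp only [Bool.and_eq_true, Nat.blt_eq] at hb
        obtain ⟨g, hg, hgp⟩ := hs _ hb.1.1
        have hmem : W.getD (e % 16) [] ∈ W := by
          rw [List.getD_eq_getElem _ _ hb.2]; exact List.getElem_mem _
        obtain ⟨h9, hfix⟩ := hW _ hmem
        refine ⟨evalW σ (W.getD (e % 16) []) * g, mul_mem ?_ hg, ?_⟩
        · intro i hi
          refine Fin.ext ?_
          rw [act_eval _ (lt9_spec h9), fr_val]
          exact fixFrame_spec hfix i hi
        · rw [map_mul, Equiv.Perm.mul_apply, act_eval _ (lt9_spec h9), hgp]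
          exact hc

theorem orb_spec {k p : ℕ} {d : List (List ℕ) × List ℕ × ℕ} (h : orbOK k p d = true) {c : ℕ}
    (hc : bit d.2.2 c = true) : ∃ g ∈ stab k, (act g (mkP p) : ℕ) = c := by
  simp only [orbOK, Bool.and_eq_true, Nat.blt_eq, List.all_eq_true, Option.any_eq_true] at h
  obtain ⟨⟨hp, hW⟩, t, ht, hts⟩ := h
  rw [← Nat.eq_of_beq_eq_true hts] at hc
  refine grow_spec (fun w hw => hW w hw) _ _ _ ht (fun c hc => ?_) c hc
  rw [bit_addBit, Bool.or_eq_true, decide_eq_true_iff] at hc
  rcases hc with hc | rfl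
  · simp [bit_eq] at hc
  · exact ⟨1, one_mem _, by rw [map_one, Equiv.Perm.one_apply, mkP_val hp]⟩

theorem stage_reach (k : Fin 9) {r : Fin N} (h : bit (stD k).2.2 r = true) :
    ∃ g ∈ stab k, act g (fr k) = r := by
  obtain ⟨g, hg, he⟩ := orb_spec (stages_ok k) h
  exact ⟨g, hg, Fin.ext he⟩

theorem alt_reach (j : Fin 2) {r : Fin N} (h : bit (altD j).2.2.2 r = true) :
    ∃ g ∈ stab 4, act g (mkP (altD j).1) = r := by
  obtain ⟨g, hg, he⟩ := orb_spec (alt_ok j) h
  exact ⟨g, hg, Fin.ext he⟩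

/-- The listed points of a stage. -/
noncomputable def orbSet (k : Fin 9) : Finset ℕ := (Finset.range 3510).filter fun c => bit (stD k).2.2 c = true

theorem orbSet_card (k : Fin 9) : (orbSet k).card = sizes.getD k 0 := by
  rw [← sizes_ok k, countAll_eq, orbSet, ← countGo_eq]
  rfl

theorem count_le (k : Fin 9) (A : Finset ℕ)
    (hA : ∀ c ∈ A, ∃ g ∈ stab k, (act g (fr k) : ℕ) = c) :
    A.card * Nat.card (stab ((k : ℕ) + 1)) ≤ Nat.card (stab k) := by
  haveI := finiteG
  choose g hg hgc using hA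
  have hmap : ∀ z : A × stab ((k : ℕ) + 1), g z.1 z.1.2 * (z.2 : G) ∈ stab k := fun z =>
    mul_mem (hg _ _) fun i hi => z.2.2 i (Nat.lt_succ_of_lt hi)
  have h := Nat.card_le_card_of_injective (fun z => (⟨_, hmap z⟩ : stab k)) ?_
  · simpa [Nat.card_prod] using h
  rintro ⟨⟨c, hc⟩, a⟩ ⟨⟨c', hc'⟩, a'⟩ e
  have e' : g c hc * (a : G) = g c' hc' * (a' : G) := congrArg Subtype.val e
  have hcc : c = c' := by
    have h1 := congrArg (fun y => (act y (fr k) : ℕ)) e'
    simp only [map_mul, Equiv.Perm.mul_apply, a.2 k (Nat.lt_succ_self _), a'.2 k (Nat.lt_succ_self _)] at h1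
    rwa [hgc, hgc] at h1
  subst hcc
  rw [mul_left_cancel_iff] at e'
  rw [Subtype.ext e']

theorem stage_le (k : Fin 9) : sizes.getD k 0 * Nat.card (stab ((k : ℕ) + 1)) ≤ Nat.card (stab k) := by
  rw [← orbSet_card]
  refine count_le k _ fun c hc => ?_
  simp only [orbSet, Finset.mem_filter, Finset.mem_range] at hc
  obtain ⟨g, hg, he⟩ := stage_reach k (r := mkP c) (by rw [mkP_val hc.1]; exact hc.2)
  exact ⟨g, hg, by rw [he, mkP_val hc.1]⟩

theorem split_not_reach : ¬ ∃ g ∈ stab 4, act g (fr 4) = mkP 424 := by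
  rintro ⟨g, hg, he⟩
  haveI := finiteG
  have hA : ∀ c ∈ insert 424 (orbSet 4), ∃ g ∈ stab ((4 : Fin 9) : ℕ), (act g (fr 4) : ℕ) = c := by
    intro c hc
    rw [Finset.mem_insert] at hc
    rcases hc with rfl | hc
    · exact ⟨g, hg, by rw [he, mkP_val (by norm_num)]⟩
    · simp only [orbSet, Finset.mem_filter, Finset.mem_range] at hc
      obtain ⟨g', hg', he'⟩ := stage_reach 4 (r := mkP c) (by rw [mkP_val hc.1]; exact hc.2)
      exact ⟨g', hg', by rw [he', mkP_val hc.1]⟩
  have h4 := count_le 4 _ hA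
  rw [Finset.card_insert_of_notMem (by
    simp only [orbSet, Finset.mem_filter]; rintro ⟨-, h⟩
    have h' : bit (stD 4).2.2 424 = true := h
    rw [alt_points.2.2] at h'; exact Bool.false_ne_true h'), orbSet_card] at h4
  have h0 := stage_le 0
  have h1 := stage_le 1
  have h2 := stage_le 2
  have h3 := stage_le 3
  have h5 := stage_le 5
  have h6 := stage_le 6
  have h7 := stage_le 7
  have h8 := stage_le 8
  have ht : Nat.card (stab 0) = 64561751654400 := by
    rw [← cardG, show stab 0 = ⊤ from eq_top_iff.2 fun g _ i hi => absurd hi (Nat.not_lt_zero _),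
      Subgroup.card_top]
  have hp : 0 < Nat.card (stab 9) := Nat.card_pos
  norm_num [sizes] at h0 h1 h2 h3 h4 h5 h6 h7 h8
  omega

end Cfsg.Agent.Suzuki.Fi22Out
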