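import Cfsg.Agent.Screen.CosetEnum.Fi22U62.Orbits
import Cfsg.Agent.Screen.CosetEnum.Fi22U62.Checked
import Cfsg.Agent.Screen.CosetEnum.PresFi22
import Cfsg.Agent.Suzuki.Fi22Out.Data

/-!
Finite checks on the 3510 transpositions of the presented Fischer group Fi22
-/

set_option autoImplicit false
set_option maxRecDepth 100000

namespace Cfsg.Agent.Suzuki.Fi22Out

open Cfsg.Agent.Screen.CosetEnum

local notation "T" => Fi22U62.tbl

/-- Letters of a packed word. -/
noncomputable def unp : ℕ → ℕ → List ℕ
  | 0, _ => []
  | k + 1, w => force w fun w => bif Nat.beq w 0 then [] else (Nat.land w 15 - 1) :: unp k (Nat.shiftRight w 4)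

/-- A word carrying the base point to a point. -/
noncomputable def rw' (q : ℕ) : List ℕ := force q fun q => unp 48 ((twTab.getD (q / 60) []).getD (q % 60) 0)

/-- The word of the transposition of a point. -/
noncomputable def dW (q : ℕ) : List ℕ := (rw' q).reverse ++ [0] ++ rw' q

/-- The letters of a word. -/
noncomputable def lt9 (w : List ℕ) : Bool := w.all fun x => Nat.blt x 9

/-- Check the words of the points below `k`. -/
noncomputable def rwGo : ℕ → Bool
  | 0 => true
  | c + 1 => lt9 (rw' c) && Nat.beq (Tab.app T (rw' c) 0) c && rwGo c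

theorem rw_ok : rwGo 3510 = true := by decide +kernel

/-- The point of stage `k`. -/
noncomputable def fP (k : ℕ) : ℕ := frame.getD k 0

/-- The generator of stage `k`. -/
noncomputable def fG (k : ℕ) : ℕ := frameGen.getD k 0

/-- Tree paths of the diagram. -/
noncomputable def gPath : List (List ℕ) :=
  [[], [1, 0], [1, 0, 2, 1], [1, 0, 2, 1, 3, 2], [1, 0, 2, 1, 3, 2, 4, 3], [1, 0, 2, 1, 3, 2, 4, 3, 5, 4],
    [1, 0, 2, 1, 3, 2, 4, 3, 5, 4, 6, 5], [1, 0, 2, 1, 3, 2, 7, 3], [1, 0, 2, 1, 3, 2, 7, 3, 8, 7]]

theorem gp_ok : ∀ k : Fin 9, fG k < 9 ∧ fP k < 3510 ∧ Tab.app T (gPath.getD (fG k) []) 0 = fP k := by decide +kernel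

theorem order_cover : ∀ j : Fin 9, ∃ k : Fin 9, fG k = j := by decide +kernel

/-- Whether the transpositions of the frame point `i` and of the point `r` commute. -/
noncomputable def adjF (i r : ℕ) : Bool := Nat.beq (Tab.img T r (fG i)) r

/-- Whether two transpositions commute. -/
noncomputable def adjB (q r : ℕ) : Bool := Nat.beq (Tab.app T (dW q) r) r

/-- The pattern of stage `k`. -/
noncomputable def pat (k i : ℕ) : Bool := adjF i (fP k)

/-- A word fixes the first `k` frame points. -/
noncomputable def fixFrame (w : List ℕ) : ℕ → Bool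
  | 0 => true
  | i + 1 => Nat.beq (Tab.app T w (fP i)) (fP i) && fixFrame w i

/-- Grow a set of points. -/
noncomputable def grow (G : List (List ℕ)) : List ℕ → ℕ → Option ℕ
  | [], s => some s
  | e :: l, s => force (e / 16) fun v => force (e % 16) fun g =>
    bif bit s v && Nat.blt v 3510 && Nat.blt g G.length then
      force (addBit s (Tab.app T (G.getD g []) v)) fun s' => grow G l s'
    else none

/-- An orbit certificate under the stabiliser of the first `k` frame points. -/
noncomputable def orbOK (k p : ℕ) (d : List (List ℕ) × List ℕ × ℕ) : Bool :=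
  Nat.blt p 3510 && d.1.all (fun w => lt9 w && fixFrame w k) &&
    (grow d.1 d.2.1 (addBit 0 p)).any fun s => Nat.beq s d.2.2

/-- The data of a stage. -/
noncomputable def stD (k : ℕ) : List (List ℕ) × List ℕ × ℕ := stageTab.getD k ([], [], 0)

/-- The sizes of the orbits. -/
noncomputable def sizes : List ℕ := [3510, 2816, 567, 96, 5, 4, 3, 2, 1]

theorem stages_ok : ∀ k : Fin 9, orbOK k (fP k) (stD k) = true := by decide +kernel

theorem sizes_ok : ∀ k : Fin 9, countAll (stD k).2.2 3510 14 = sizes.getD k 0 := by decide +kernel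

/-- The data of a further orbit at the split stage. -/
noncomputable def altD (j : ℕ) : ℕ × List (List ℕ) × List ℕ × ℕ := altTab.getD j (0, [], [], 0)

theorem alt_ok : ∀ j : Fin 2, orbOK 4 (altD j).1 (altD j).2 = true := by decide +kernel

theorem alt_points : (altD 0).1 = 424 ∧ (altD 1).1 = 40 ∧ bit (stD 4).2.2 424 = false := by decide +kernel

/-- The orbits available at a stage. -/
noncomputable def cover (k : ℕ) : ℕ :=
  bif Nat.beq k 4 then Nat.lor (stD 4).2.2 (Nat.lor (altD 0).2.2.2 (altD 1).2.2.2) else (stD k).2.2

/-- A point with the pattern of stage `k`. -/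
noncomputable def hasPat (k r : ℕ) : ℕ → Bool
  | 0 => true
  | i + 1 => bif adjF i r then pat k i && !(Nat.beq r (fP i)) && hasPat k r i
      else !(pat k i) && !(Nat.beq r (fP i)) && hasPat k r i

/-- Every candidate of stage `k` below `c` is covered. -/
noncomputable def coverGo (k : ℕ) : ℕ → Bool
  | 0 => true
  | c + 1 => (!(hasPat k c k) || bit (cover k) c) && coverGo k c

theorem cover_ok : ∀ k : Fin 9, coverGo k 3510 = true := by decide +kernel

/-- The prefix of the dead branch. -/
noncomputable def deadPre : List ℕ := [fP 0, fP 1, fP 2, fP 3, 40]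

theorem forty : fG 6 = 4 ∧ fP 6 = 40 := by decide +kernel

/-- The position of a prefix point in the frame. -/
noncomputable def deadIdx (i : ℕ) : ℕ := bif Nat.blt i 4 then i else 6

/-- The pattern of stage `k` with respect to the dead prefix. -/
noncomputable def deadPat (k r : ℕ) : ℕ → Bool
  | 0 => true
  | i + 1 => (adjF (deadIdx i) r == pat k i) && deadPat k r i

/-- The admissible images in the dead branch. -/
noncomputable def deadB (k : ℕ) : List ℕ := deadTab.getD (k - 5) []

/-- Every point with the pattern is listed. -/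
noncomputable def deadListGo (k : ℕ) : ℕ → Bool
  | 0 => true
  | c + 1 => (!(deadPat k c 5) || (deadB k).contains c) && deadListGo k c

theorem dead_lists : ∀ k : Fin 4, deadListGo (5 + k) 3510 = true := by decide +kernel

/-- A point extends a prefix to stage `k`. -/
noncomputable def extPat (k : ℕ) (pre : List ℕ) (r : ℕ) : ℕ → Bool
  | 0 => true
  | i + 1 => (adjB (pre.getD i 0) r == pat k i) && !(Nat.beq r (pre.getD i 0)) && extPat k pre r i

/-- No prefix extends to the whole frame. -/
noncomputable def deadGo : ℕ → ℕ → List ℕ → Bool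
  | 0, _, _ => false
  | f + 1, k, pre => (deadB k).all fun r => !(extPat k pre r k) || deadGo f (k + 1) (pre ++ [r])

theorem dead_ok : deadGo 4 5 deadPre = true := by decide +kernel

/-- The images of the generators under the outer automorphism. -/
noncomputable def outW (x : ℕ) : List ℕ := bif Nat.beq x 7 then dW 424 else [x]

/-- The words agree on the frame. -/
noncomputable def frameEq (v w : List ℕ) : Bool :=
  lt9 v && lt9 w && (List.range 9).all fun k => Nat.beq (Tab.app T v (fP k)) (Tab.app T w (fP k))

theorem out_rel : PresFi22.relList.all (fun w => frameEq (w.flatMap outW) []) = true := by decide +kernel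

theorem out_inv : frameEq ((dW 424).flatMap outW) [7] = true := by decide +kernel

theorem out_stage : fG 4 = 7 ∧ ∀ k : Fin 9, (k : ℕ) ≠ 4 → fG k ≠ 7 := by decide +kernel

/-- The element of order eleven as a permutation table. -/
noncomputable def xT (c : ℕ) : ℕ := force c fun c => Nat.land (Nat.shiftRight (xTab.getD (c / 60) 0) (12 * (c % 60))) 4095

/-- The table is right and has only one fixed point. -/
noncomputable def xGo : ℕ → Bool
  | 0 => true
  | c + 1 => Nat.beq (Tab.app T xWord c) (xT c) && (Nat.beq c 0 || !(Nat.beq (xT c) c)) && xGo c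

theorem x_table : xGo 3510 = true := by decide +kernel

/-- Iterates of the table. -/
noncomputable def xIt : ℕ → ℕ → ℕ
  | 0, c => c
  | i + 1, c => force (xIt i c) fun d => xT d

theorem x_order : lt9 xWord = true ∧ xT 0 = 0 ∧ xT 1 ≠ 1 ∧ ∀ k : Fin 9, xIt 11 (fP k) = fP k := by decide +kernel

/-- The base point and a cycle. -/
noncomputable def pts (r i : ℕ) : ℕ := bif Nat.beq i 0 then 0 else xIt (i - 1) r

/-- A probe. -/
noncomputable def probe (r : ℕ) (p : ℕ × ℕ × ℕ × ℕ) : Bool :=
  force (Tab.app T (dW (pts r p.1)) (pts r p.2.1)) fun z =>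
    force (bif Nat.blt p.2.2.1 12 then Tab.app T (dW z) (pts r p.2.2.1) else z) fun z' =>
      adjB z' (pts r p.2.2.2)

/-- The invariants of the cycle of the first point moved. -/
noncomputable def cycOK (r : ℕ) : Bool :=
  (adjF 0 r == adjF 0 1) && (adjB r (xIt 1 r) == adjB 1 (xIt 1 1)) && (adjB r (xIt 2 r) == adjB 1 (xIt 2 1)) &&
    (adjB r (xIt 3 r) == adjB 1 (xIt 3 1)) && (adjB r (xIt 4 r) == adjB 1 (xIt 4 1)) &&
    (adjB r (xIt 5 r) == adjB 1 (xIt 5 1)) && probes.all fun p => probe r p == probe 1 p

/-- Every point with the invariants is listed. -/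
noncomputable def candGo : ℕ → Bool
  | 0 => true
  | c + 1 => (Nat.beq c 0 || !(cycOK c) || candList.contains c) && candGo c

theorem cand_ok : candGo 3510 = true := by decide +kernel

theorem cand_length : candList.length = 22 := by decide +kernel

/-- The start of the closure. -/
noncomputable def closStart : ℕ := (List.range 12).foldl (fun s i => addBit s (pts 1 i)) 0

/-- Grow the closure. -/
noncomputable def clos : List ℕ → ℕ → Option ℕ
  | [], s => some s
  | e :: l, s => force (e / 64) fun v => force (closGens.getD (e % 64) 0) fun a =>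
    bif bit s v && bit s a && Nat.blt v 3510 && Nat.blt a 3510 then
      force (addBit s (Tab.app T (dW a) v)) fun s' => clos l s'
    else none

theorem clos_ok : (clos closSteps closStart).any (fun s => Nat.beq s (2 ^ 3510 - 1)) = true := by decide +kernel

end Cfsg.Agent.Suzuki.Fi22Out
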